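import Cfsg.Agent.Sig2.Final

set_option autoImplicit false

namespace Cfsg.Lib.ZH8

open Cfsg.Lib Cfsg.Lib.Trans Cfsg.Lib.Local Cfsg.Lib.Bender Cfsg.Lib.Sig2 Subgroup

variable {G : Type*} [Group G] [Finite G]

theorem exists_maxTwoLocal_ge {H : Subgroup G} (hH : IsTwoLocal H) :
    ∃ M : Subgroup G, IsMaximalTwoLocal M ∧ H ≤ M := by
  obtain ⟨M, hHM, hM⟩ := Finite.exists_le_maximal (p := fun N : Subgroup G => IsTwoLocal N) hH
  exact ⟨M, ⟨hM.1, fun N hN hMN => le_antisymm (hM.2 hN hMN) hMN⟩, hHM⟩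

theorem normalizer_zpowers_involution {z : G} (hz : orderOf z = 2) :
    normalizer (zpowers z : Set G) = centralizer {z} := by
  have hz2 : z * z = 1 := by rw [← pow_two, ← hz, pow_orderOf_eq_one]
  have hz1 : z ≠ 1 := by rintro rfl; rw [orderOf_one] at hz; omega
  apply le_antisymm
  · intro g hg
    rw [mem_centralizer_singleton_iff]
    rcases mem_zpowers_of_mul_self hz2 (mem_normalizer_conj hg (mem_zpowers z)) with h | h
    · exact absurd h (conj_ne_one' hz1)
    · rw [mul_inv_eq_iff_eq_mul] at h; exact h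
  · rw [← Trans.centralizer_zpowers_eq]
    exact centralizer_le_normalizer _

theorem isTwoLocal_centralizer {z : G} (hz : orderOf z = 2) : IsTwoLocal (centralizer {z}) := by
  have hz2 : z * z = 1 := by rw [← pow_two, ← hz, pow_orderOf_eq_one]
  have hz1 : z ≠ 1 := by rintro rfl; rw [orderOf_one] at hz; omega
  exact ⟨zpowers z, (El.zpowers hz2).isPGroup, by simpa using hz1,
    (normalizer_zpowers_involution hz).symm⟩

theorem eq_of_isCyclic_of_orderOf_two {C : Type*} [Group C] [Finite C] [IsCyclic C] {x y : C}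
    (hx : orderOf x = 2) (hy : orderOf y = 2) : x = y := by
  by_contra hne
  letI := IsCyclic.commGroup (α := C)
  obtain ⟨-, h, -⟩ := four_group hx hy hne (mul_comm x y)
  exact h inferInstance

/-- A maximal 2-local subgroup of characteristic 2 with `Z(O₂(M))` cyclic is the centralizer of
the only involution centralizing `O₂(M)`. -/
theorem exists_eq_centralizer {M : Subgroup G} (hM : IsMaximalTwoLocal M) (hc : CharP 2 M)
    (hcyc : IsCyclic (center (pCore 2 M))) :
    ∃ w : G, M = centralizer {w} ∧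
      ∀ z : G, orderOf z = 2 → pCoreOf 2 M ≤ centralizer {z} → z = w := by
  haveI : Fact (Nat.Prime 2) := ⟨Nat.prime_two⟩
  have huniq : ∀ x y : G, orderOf x = 2 → orderOf y = 2 → x ∈ pCoreOf 2 M → y ∈ pCoreOf 2 M →
      pCoreOf 2 M ≤ centralizer {x} → pCoreOf 2 M ≤ centralizer {y} → x = y := by
    have key : ∀ x : G, x ∈ pCoreOf 2 M → pCoreOf 2 M ≤ centralizer {x} →
        ∃ c : center (pCore 2 M), (((c : pCore 2 M) : M) : G) = x := by
      rintro _ ⟨x, hx, rfl⟩ h
      refine ⟨⟨⟨x, hx⟩, mem_center_iff.2 fun g => Subtype.ext (Subtype.ext ?_)⟩, rfl⟩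
      exact mem_centralizer_singleton_iff.1 (h ⟨g, g.2, rfl⟩)
    intro x y hx hy hx' hy' hx'' hy''
    obtain ⟨c, rfl⟩ := key x hx' hx''
    obtain ⟨d, rfl⟩ := key y hy' hy''
    rw [Subgroup.orderOf_coe, Subgroup.orderOf_coe, Subgroup.orderOf_coe] at hx hy
    rw [eq_of_isCyclic_of_orderOf_two hx hy]
  have hM1 : M ≠ ⊥ := by
    obtain ⟨T, -, hT1, rfl⟩ := hM.1
    exact fun h => hT1 (le_bot_iff.1 (h ▸ le_normalizer))
  have hQ := isPGroup_pCoreOf (p := 2) M
  have hQ1 := hc.pCoreOf_ne_bot hM1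
  haveI : Nontrivial (pCoreOf 2 M) := (nontrivial_iff_ne_bot _).2 hQ1
  have hZ : center (pCoreOf 2 M) ≠ ⊥ := (nontrivial_iff_ne_bot _).1 hQ.center_nontrivial
  obtain ⟨w, hw, hw2⟩ := exists_orderOf_eq_of_isPGroup (hQ.to_subgroup _) hZ
  have hw2' : orderOf (w : G) = 2 := by rw [Subgroup.orderOf_coe]; exact hw2
  have hwc : pCoreOf 2 M ≤ centralizer {(w : G)} := fun q hq =>
    mem_centralizer_singleton_iff.2 (congrArg Subtype.val (mem_center_iff.1 hw ⟨q, hq⟩))
  have hMw : M ≤ centralizer {(w : G)} := by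
    intro m hm
    have hmn := le_normalizer_pCoreOf (p := 2) M hm
    have := huniq (m * w * m⁻¹) w (by rw [orderOf_conj_eq]; exact hw2') hw2'
      (mem_normalizer_conj hmn w.2) w.2 (by
        rw [← cj_centralizer_sing, le_cj_iff]
        exact fun t ht => hwc (mem_normalizer_conj' hmn ht)) hwc
    rw [mem_centralizer_singleton_iff, ← mul_inv_eq_iff_eq_mul]; exact this
  have hMeq : M = centralizer {(w : G)} := (hM.2 _ (isTwoLocal_centralizer hw2') hMw).symm
  refine ⟨w, hMeq, fun z hz hzc => huniq z w hz hw2' (hc ⟨?_, ?_⟩) w.2 hzc hwc⟩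
  · rw [hMeq]
    exact mem_centralizer_singleton_iff.2 (mem_centralizer_singleton_iff.1 (hzc w.2)).symm
  · exact mem_centralizer_iff.2 fun q hq => mem_centralizer_singleton_iff.1 (hzc hq)

/-- In a non-abelian simple group of characteristic 2 type, `Z(O₂(M))` is non-cyclic for some
maximal 2-local subgroup `M`. -/
theorem exists_maxTwoLocal_not_isCyclic [IsSimpleGroup G] (hG : ¬ IsMulCommutative G)
    (h2 : IsCharacteristicTwoType G) :
    ∃ M : Subgroup G, IsMaximalTwoLocal M ∧ ¬ IsCyclic (center (pCore 2 M)) := by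
  haveI : Fact (Nat.Prime 2) := ⟨Nat.prime_two⟩
  by_contra hcon
  push Not at hcon
  have hA : ∀ {M : Subgroup G}, IsMaximalTwoLocal M → ∃ w : G, M = centralizer {w} ∧
      ∀ z : G, orderOf z = 2 → pCoreOf 2 M ≤ centralizer {z} → z = w := by
    intro M hM
    refine exists_eq_centralizer hM ?_ (hcon M hM)
    obtain ⟨T, hT, hT1, rfl⟩ := hM.1
    exact charP_iff.2 (h2.2 T hT hT1)
  obtain ⟨S, hS⟩ := exists_isSylowIn (p := 2) (⊤ : Subgroup G)
  have hS1 : S ≠ ⊥ := by
    rw [Ne, hS.eq_bot_iff, card_top, not_not]; exact even_iff_two_dvd.1 h2.1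
  haveI : Nontrivial S := (nontrivial_iff_ne_bot _).2 hS1
  have hZ : center S ≠ ⊥ := (nontrivial_iff_ne_bot _).1 hS.isPGroup.center_nontrivial
  obtain ⟨z', hz', hz2'⟩ := exists_orderOf_eq_of_isPGroup (hS.isPGroup.to_subgroup _) hZ
  obtain ⟨z, hzS⟩ := z'
  have hz : orderOf z = 2 := by rw [← hz2', ← Subgroup.orderOf_coe]
  have hSz : S ≤ centralizer {z} := fun q hq =>
    mem_centralizer_singleton_iff.2 (congrArg Subtype.val (mem_center_iff.1 hz' ⟨q, hq⟩))
  -- `z` is not isolated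
  have hiso : ¬ IsIsolatedInvolution z := by
    intro h
    have h1 := oddCore_sup_centralizer_of_isolated h
    rw [oddCore_eq_bot_of_simple h2.1, bot_sup_eq] at h1
    have hzc : z ∈ center G := mem_center_iff.2 fun g =>
      mem_centralizer_singleton_iff.1 (h1 ▸ mem_top g)
    rcases (inferInstance : (center G).Normal).eq_bot_or_eq_top with h | h
    · rw [h, mem_bot] at hzc
      rw [hzc, orderOf_one] at hz; omega
    · exact hG ⟨⟨fun a b => mem_center_iff.1 (h ▸ mem_top b) a⟩⟩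
  have hex : ∃ H : Subgroup G, IsTwoLocal H ∧ ¬ H ≤ centralizer {z} ∧ z ∈ H := by
    rw [IsIsolatedInvolution, not_and] at hiso
    have := hiso hz
    push Not at this
    obtain ⟨g, hg, hne⟩ := this
    have hu : orderOf (g * z * g⁻¹) = 2 := by rw [orderOf_conj_eq]; exact hz
    refine ⟨centralizer {g * z * g⁻¹}, isTwoLocal_centralizer hu, fun hle => hne ?_,
      mem_centralizer_singleton_iff.2 hg.eq⟩
    have heq : centralizer {g * z * g⁻¹} = centralizer ({z} : Set G) :=
      eq_of_le_of_card_ge hle (by rw [← cj_centralizer_sing, card_cj])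
    obtain ⟨M, hM, hle⟩ := exists_maxTwoLocal_ge (isTwoLocal_centralizer hz)
    obtain ⟨w, -, hw⟩ := hA hM
    have hQ : pCoreOf 2 M ≤ centralizer {z} :=
      (pCoreOf_le_sylowIn (hS.mono (hSz.trans hle) le_top)).trans hSz
    rw [hw z hz hQ] at heq ⊢
    rw [← hw z hz hQ] at heq ⊢
    exact (hw _ hu (heq ▸ hQ)).trans (hw z hz hQ).symm
  let P : Subgroup G → Prop := fun T => IsPGroup 2 T ∧ T ≠ ⊥ ∧ T ≤ centralizer {z} ∧
    ∃ H : Subgroup G, IsTwoLocal H ∧ ¬ H ≤ centralizer {z} ∧ T ≤ H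
  have hz2 : z * z = 1 := by rw [← pow_two, ← hz, pow_orderOf_eq_one]
  have hz1 : z ≠ 1 := by rintro rfl; rw [orderOf_one] at hz; omega
  have hP : P (zpowers z) := by
    obtain ⟨H, h1, h2, h3⟩ := hex
    exact ⟨(El.zpowers hz2).isPGroup, by simpa using hz1,
      by simpa using mem_centralizer_singleton_iff.2 rfl, H, h1, h2, by simpa using h3⟩
  obtain ⟨T, -, ⟨hT, hT1, hTz, H, hH, hHz, hTH⟩, hmax⟩ := Finite.exists_le_maximal hP
  obtain ⟨M, hM, hHM⟩ := exists_maxTwoLocal_ge hH
  have hMz : ¬ M ≤ centralizer {z} := fun h => hHz (hHM.trans h)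
  have hQT : pCoreOf 2 M ≤ T := by
    by_contra hn
    have hR : IsPGroup 2 (T ⊔ pCoreOf 2 M : Subgroup G) :=
      isPGroup_sup hT (isPGroup_pCoreOf M) ((hTH.trans hHM).trans (le_normalizer_pCoreOf M))
    have hlt : T < T ⊔ pCoreOf 2 M := lt_of_le_of_ne le_sup_left fun h => hn (h ▸ le_sup_right)
    by_cases hN : normalizer (T : Set G) ≤ centralizer {z}
    · have h1 := lt_inf_normalizer hR hlt
      refine h1.not_ge (hmax ⟨hR.to_le inf_le_left, ne_bot_of_gt h1, inf_le_right.trans hN,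
        M, hM.1, hMz, inf_le_left.trans (sup_le (hTH.trans hHM) (pCoreOf_le M))⟩ h1.le)
    · obtain ⟨R, hR', hTR⟩ := exists_isSylowIn_ge hT hTz
      have hlt' : T < R := by
        refine lt_of_le_of_ne hTR fun h => ?_
        have h3 : IsSylowIn 2 T ⊤ := hS.of_card_ge hT le_top
          (by rw [h]; exact ((hS.mono hSz le_top).card_eq_card hR').le)
        exact hlt.ne' (h3.eq_of_le hR le_sup_left le_top)
      have h1 := lt_inf_normalizer hR'.isPGroup hlt'
      exact h1.not_ge (hmax ⟨hR'.isPGroup.to_le inf_le_left, ne_bot_of_gt h1,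
        inf_le_left.trans hR'.le, _, ⟨T, hT, hT1, rfl⟩, hN, inf_le_right⟩ h1.le)
  obtain ⟨w, hMw, hw⟩ := hA hM
  exact hMz (by rw [hMw, hw z hz (hQT.trans hTz)])

/-- An involution normalizing an elementary abelian group of order at least eight centralizes a
four-group of it. -/
theorem e4_inf_centralizer {A : Subgroup G} (hA : E8 A) {w : G} (hw : w * w = 1)
    (hn : w ∈ normalizer (A : Set G)) : E4 (A ⊓ centralizer {w}) := by
  refine ⟨hA.1.mono inf_le_left, ?_⟩
  have hwi : w⁻¹ = w := inv_eq_of_mul_eq_one_right hw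
  let f : A →* G :=
    { toFun := fun a => a * (w * a * w⁻¹)
      map_one' := by simp
      map_mul' := fun a b => by
        have := hA.1.comm b.2 (mem_normalizer_conj hn a.2)
        simp only [coe_mul]
        calc (a : G) * b * (w * (a * b) * w⁻¹) = a * (b * (w * a * w⁻¹)) * (w * b * w⁻¹) := by group
          _ = _ := by rw [this]; group }
  have hr : f.range ≤ A ⊓ centralizer {w} := by
    rintro _ ⟨a, rfl⟩
    refine ⟨A.mul_mem a.2 (mem_normalizer_conj hn a.2), mem_centralizer_singleton_iff.2 ?_⟩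
    have := hA.1.comm a.2 (mem_normalizer_conj hn a.2)
    show (a : G) * (w * a * w⁻¹) * w = w * (a * (w * a * w⁻¹))
    calc (a : G) * (w * a * w⁻¹) * w = a * w * a := by group
      _ = (w * w) * a * w * a := by rw [hw, one_mul]
      _ = w * ((w * a * w⁻¹) * a) := by rw [hwi]; group
      _ = _ := by rw [this]
  have hk : f.ker.map A.subtype ≤ A ⊓ centralizer {w} := by
    rintro _ ⟨a, ha, rfl⟩
    refine ⟨a.2, mem_centralizer_singleton_iff.2 ?_⟩
    have h1 : (a : G) * (w * a * w⁻¹) = 1 := ha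
    have h2 : w * a * w⁻¹ = a := by
      rw [← hA.1.inv_eq a.2] at h1 ⊢
      rw [hA.1.inv_eq a.2] at h1
      rw [hA.1.inv_eq a.2, eq_inv_of_mul_eq_one_right h1, hA.1.inv_eq a.2]
    rw [mul_inv_eq_iff_eq_mul] at h2
    exact h2.symm
  have h1 := Trans.card_le_of_le hr
  have h2 := Trans.card_le_of_le hk
  rw [card_map_of_injective A.subtype_injective] at h2
  have h3 : Nat.card A = Nat.card f.range * Nat.card f.ker := by
    rw [card_eq_card_quotient_mul_card_subgroup f.ker,
      Nat.card_congr (QuotientGroup.quotientKerEquivRange f).toEquiv]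
  have h4 := hA.2
  obtain ⟨k, hk⟩ := (IsPGroup.iff_card (p := 2)).1
    (hA.1.mono (inf_le_left : A ⊓ centralizer {w} ≤ A)).isPGroup
  rw [hk] at h1 h2 ⊢
  by_contra hlt
  have : k ≤ 1 := by
    by_contra hk2
    exact hlt (le_trans (by norm_num) (Nat.pow_le_pow_right (by norm_num) (show 2 ≤ k by omega)))
  have h5 : 2 ^ k ≤ 2 := by interval_cases k <;> norm_num
  nlinarith

end Cfsg.Lib.ZH8
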