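import Mathlib

/-!
# The unitriangular group of degree four over two elements, a Sylow 2-subgroup of `A₈`
-/

set_option autoImplicit false

namespace Cfsg.Lib.ZH8

/-- Unitriangular `4 × 4` matrices over the field with two elements. -/
@[ext] structure UT4 where
  a : ZMod 2
  b : ZMod 2
  c : ZMod 2
  d : ZMod 2
  e : ZMod 2
  f : ZMod 2
  deriving DecidableEq

namespace UT4

/-- Coordinates. -/
def equivProd : UT4 ≃ ZMod 2 × ZMod 2 × ZMod 2 × ZMod 2 × ZMod 2 × ZMod 2 where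
  toFun u := (u.a, u.b, u.c, u.d, u.e, u.f)
  invFun v := ⟨v.1, v.2.1, v.2.2.1, v.2.2.2.1, v.2.2.2.2.1, v.2.2.2.2.2⟩
  left_inv _ := rfl
  right_inv _ := rfl

instance instFintype : Fintype UT4 := Fintype.ofEquiv _ equivProd.symm

instance instMul : Mul UT4 := ⟨fun u v => ⟨u.a + v.a, u.b + v.b, u.c + v.c, u.d + v.d + u.a * v.b,
  u.e + v.e + u.b * v.c, u.f + v.f + u.a * v.e + u.d * v.c⟩⟩

instance instOne : One UT4 := ⟨⟨0, 0, 0, 0, 0, 0⟩⟩

instance instInv : Inv UT4 := ⟨fun u => ⟨u.a, u.b, u.c, u.d + u.a * u.b, u.e + u.b * u.c,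
  u.f + u.a * u.e + u.a * u.b * u.c + u.d * u.c⟩⟩

theorem mul_def (u v : UT4) : u * v = ⟨u.a + v.a, u.b + v.b, u.c + v.c, u.d + v.d + u.a * v.b,
    u.e + v.e + u.b * v.c, u.f + v.f + u.a * v.e + u.d * v.c⟩ := rfl

instance instGroup : Group UT4 := Group.ofLeftAxioms
  (fun u v w => by ext <;> simp only [mul_def] <;> ring)
  (by decide +kernel) (by decide +kernel)

theorem card : Nat.card UT4 = 64 := by
  rw [Nat.card_congr equivProd]
  simp

/-- The affine action on the three-dimensional space. -/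
instance instAct : MulAction UT4 (ZMod 2 × ZMod 2 × ZMod 2) where
  smul u p := (p.1 + u.a * p.2.1 + u.d * p.2.2 + u.f, p.2.1 + u.b * p.2.2 + u.e, p.2.2 + u.c)
  one_smul := by decide +kernel
  mul_smul u v p := by
    change ((_, _, _) : ZMod 2 × ZMod 2 × ZMod 2) = (p.1 + v.a * p.2.1 + v.d * p.2.2 + v.f +
      u.a * (p.2.1 + v.b * p.2.2 + v.e) + u.d * (p.2.2 + v.c) + u.f,
      p.2.1 + v.b * p.2.2 + v.e + u.b * (p.2.2 + v.c) + u.e, p.2.2 + v.c + u.c)
    simp only [mul_def, Prod.mk.injEq]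
    refine ⟨by ring, by ring, by ring⟩

theorem faithful : ∀ u : UT4, (∀ p : ZMod 2 × ZMod 2 × ZMod 2, u • p = p) → u = 1 := by
  decide +kernel

theorem sign_eq : ∀ u : UT4,
    Equiv.Perm.sign (MulAction.toPerm u : Equiv.Perm (ZMod 2 × ZMod 2 × ZMod 2)) = 1 := by
  decide +kernel

theorem nonempty_equiv (P : Sylow 2 (alternatingGroup (Fin 8))) :
    Nonempty ((P : Subgroup (alternatingGroup (Fin 8))) ≃* UT4) := by
  let e : (ZMod 2 × ZMod 2 × ZMod 2) ≃ Fin 8 := Fintype.equivFinOfCardEq (by simp)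
  let φ : UT4 →* Equiv.Perm (Fin 8) :=
    e.permCongrHom.toMonoidHom.comp (MulAction.toPermHom UT4 (ZMod 2 × ZMod 2 × ZMod 2))
  have h1 : ∀ u, φ u ∈ alternatingGroup (Fin 8) := fun u =>
    Equiv.Perm.mem_alternatingGroup.2 ((Equiv.Perm.sign_permCongr e _).trans (sign_eq u))
  have h2 : Function.Injective φ := by
    refine e.permCongrHom.injective.comp ((injective_iff_map_eq_one _).2 fun u hu => ?_)
    exact faithful u fun p => Equiv.congr_fun hu p
  let ψ := φ.codRestrict _ h1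
  have h3 : Function.Injective ψ := fun u v h => h2 (congrArg Subtype.val h)
  have h4 : Nat.card ψ.range = 2 ^ (Nat.card (alternatingGroup (Fin 8))).factorization 2 := by
    rw [← Nat.card_congr (MonoidHom.ofInjective h3).toEquiv, card, nat_card_alternatingGroup,
      Nat.factorization_def _ Nat.prime_two, Nat.card_eq_fintype_card, Fintype.card_fin]
    decide +kernel
  exact ⟨(Sylow.equiv P (Sylow.ofCard ψ.range h4)).trans (MonoidHom.ofInjective h3).symm⟩

/-- The elementary abelian subgroup of order 16. -/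
def J (u : UT4) : Prop := u.a = 0 ∧ u.c = 0

instance instDecJ : DecidablePred J := fun _ => inferInstanceAs (Decidable (_ ∧ _))

theorem center : ∀ y : UT4, (∀ x, x * y = y * x) → y = 1 ∨ y = ⟨0, 0, 0, 0, 0, 1⟩ := by
  decide +kernel

theorem card_lt : ∀ y : UT4, y * y = 1 → ¬ J y →
    (Finset.univ.filter fun w : UT4 => w * w = 1 ∧ w * y = y * w).card < 16 := by
  decide +kernel

theorem card_J : (Finset.univ.filter J).card = 16 := by decide +kernel

theorem exists_sq : ∀ x : UT4, ¬ J x → ∃ j, J j ∧ x * j * (x * j) = 1 := by decide +kernel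

theorem exists_conj : ∀ x y : UT4, ¬ J x → x * x = 1 → y * y = 1 → J (x⁻¹ * y) →
    ∃ j, J j ∧ j * x * j⁻¹ = y := by decide +kernel

theorem not_comm : ∃ x j : UT4, J j ∧ x * j ≠ j * x := by decide +kernel

theorem mem_iff {A : Subgroup UT4} (hsq : ∀ a ∈ A, a * a = 1) (hc : ∀ a ∈ A, ∀ b ∈ A, a * b = b * a)
    (h16 : Nat.card A = 16) (x : UT4) : x ∈ A ↔ J x := by
  classical
  have hA : (Finset.univ.filter (· ∈ A)).card = 16 := by
    rw [← h16, Nat.card_eq_fintype_card, Fintype.card_subtype]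
  have h1 : Finset.univ.filter (· ∈ A) ⊆ Finset.univ.filter J := fun y hy => by
    rw [Finset.mem_filter] at hy ⊢
    refine ⟨hy.1, by_contra fun hn => ?_⟩
    have := Finset.card_le_card (s := Finset.univ.filter (· ∈ A))
      (t := Finset.univ.filter fun w : UT4 => w * w = 1 ∧ w * y = y * w) fun w hw => by
        rw [Finset.mem_filter] at hw ⊢
        exact ⟨hw.1, hsq w hw.2, hc w hw.2 y hy.2⟩
    have := card_lt y (hsq y hy.2) hn
    omega
  have h2 := Finset.eq_of_subset_of_card_le h1 (by rw [hA, card_J])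
  simpa using Finset.ext_iff.1 h2 x

end UT4

/-- The facts about a Sylow 2-subgroup `T` of type `A₈` and its subgroup `A ≅ E₁₆`. -/
structure A8Pair {G : Type*} [Group G] (T A : Subgroup G) : Prop where
  center : ∃ z : G, ∀ y ∈ T, (∀ x ∈ T, x * y = y * x) → y = 1 ∨ y = z
  sq : ∀ x ∈ T, x ∉ A → ∃ a ∈ A, x * a * (x * a) = 1
  conj : ∀ x ∈ T, ∀ y ∈ T, x ∉ A → x * x = 1 → y * y = 1 → x⁻¹ * y ∈ A → ∃ a ∈ A, a * x * a⁻¹ = y
  not_comm : ∃ x ∈ T, ∃ a ∈ A, x * a ≠ a * x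

theorem a8Pair_of_equiv {G : Type*} [Group G] {T A : Subgroup G} (e : T ≃* UT4) (hAT : A ≤ T)
    (hsq : ∀ a ∈ A, a * a = 1) (hc : ∀ a ∈ A, ∀ b ∈ A, a * b = b * a) (h16 : Nat.card A = 16) :
    A8Pair T A := by
  have hm : ∀ x : T, (x : G) ∈ A ↔ UT4.J (e x) := fun x => by
    rw [← UT4.mem_iff (A := (A.subgroupOf T).map e.toMonoidHom), Subgroup.mem_map_equiv,
      e.symm_apply_apply, Subgroup.mem_subgroupOf]
    · rintro _ ⟨a, ha, rfl⟩
      rw [← map_mul, show a * a = 1 from Subtype.ext (hsq a ha), map_one]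
    · rintro _ ⟨a, ha, rfl⟩ _ ⟨b, hb, rfl⟩
      rw [← map_mul, ← map_mul, show a * b = b * a from Subtype.ext (hc a ha b hb)]
    · rw [← h16, ← Nat.card_congr ((A.subgroupOf T).equivMapOfInjective _ e.injective).toEquiv,
        Nat.card_congr (Subgroup.subgroupOfEquivOfLe hAT).toEquiv]
  have hv : ∀ x y : T, e x = e y → (x : G) = y := fun x y h => congrArg Subtype.val (e.injective h)
  refine ⟨⟨e.symm ⟨0, 0, 0, 0, 0, 1⟩, fun y hy h => ?_⟩, fun x hx hn => ?_,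
    fun x hx y hy hn hx2 hy2 h => ?_, ?_⟩
  · refine (UT4.center (e ⟨y, hy⟩) fun x => ?_).imp (fun h => hv ⟨y, hy⟩ 1 (by rw [h, map_one]))
      fun h => hv ⟨y, hy⟩ _ (by rw [h, e.apply_symm_apply])
    obtain ⟨x, rfl⟩ := e.surjective x
    rw [← map_mul, ← map_mul, show x * ⟨y, hy⟩ = ⟨y, hy⟩ * x from Subtype.ext (h x x.2)]
  · obtain ⟨j, hj, h⟩ := UT4.exists_sq (e ⟨x, hx⟩) fun h => hn ((hm ⟨x, hx⟩).2 h)
    obtain ⟨j, rfl⟩ := e.surjective j
    exact ⟨j, (hm j).2 hj, hv (⟨x, hx⟩ * j * (⟨x, hx⟩ * j)) 1 (by simpa using h)⟩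
  · obtain ⟨j, hj, h⟩ := UT4.exists_conj (e ⟨x, hx⟩) (e ⟨y, hy⟩) (fun h => hn ((hm ⟨x, hx⟩).2 h))
      (by rw [← map_mul, show (⟨x, hx⟩ * ⟨x, hx⟩ : T) = 1 from Subtype.ext hx2, map_one])
      (by rw [← map_mul, show (⟨y, hy⟩ * ⟨y, hy⟩ : T) = 1 from Subtype.ext hy2, map_one])
      (by rw [← map_inv, ← map_mul]; exact (hm _).1 h)
    obtain ⟨j, rfl⟩ := e.surjective j
    exact ⟨j, (hm j).2 hj, hv (j * ⟨x, hx⟩ * j⁻¹) ⟨y, hy⟩ (by simpa using h)⟩
  · obtain ⟨x, j, hj, h⟩ := UT4.not_comm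
    obtain ⟨j, rfl⟩ := e.surjective j
    obtain ⟨x, rfl⟩ := e.surjective x
    refine ⟨x, x.2, j, (hm j).2 hj, fun h' => h ?_⟩
    rw [← map_mul, ← map_mul, show x * j = j * x from Subtype.ext h']

end Cfsg.Lib.ZH8
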