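import Cfsg.Agent.Gold.KBender
import Cfsg.Agent.Class.FieldIso

/-!
# The Sylow 2-subgroups of `U₃(2ⁿ)` as abstract groups
-/

set_option autoImplicit false

namespace Cfsg.Lib.ZH8

open Subgroup Cfsg.Lib.Trans Cfsg.Lib.Local Cfsg.Lib.Gold Cfsg.Lib.Chev.RankOne

universe u

/-- The abstract properties of a Sylow 2-subgroup `S` of `U₃(q)` with centre `Z`. -/
structure UP {G : Type*} [Group G] (q : ℕ) (S Z : Subgroup G) : Prop where
  mem_iff : ∀ x, x ∈ Z ↔ x ∈ S ∧ x * x = 1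
  central : S ≤ Cs Z
  comm : ∀ s ∈ S, ∀ t ∈ S, s * t * s⁻¹ * t⁻¹ ∈ Z
  sq : ∀ t ∈ S, t * t ∈ Z
  cardZ : Nat.card Z = q
  cardS : Nat.card S = q ^ 2 * q
  conj : ∀ x ∈ S, x ∉ Z → ∀ z ∈ Z, ∃ s ∈ S, s * x * s⁻¹ * x⁻¹ = z
  ab : ∀ x ∈ S, x ∉ Z → ∀ a ∈ S, ∀ b ∈ S, a * x = x * a → b * x = x * b → a * b = b * a
  root : ∀ x ∈ S, x ∉ Z → ∀ z ∈ Z, ∃ b ∈ S, b * x = x * b ∧ b * b = z

variable {G G' : Type*} [Group G] [Group G'] {q : ℕ} {S Z : Subgroup G}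

theorem UP.le (h : UP q S Z) : Z ≤ S := fun x hx => ((h.mem_iff x).1 hx).1

theorem UP.of_equiv (h : UP q S Z) {T : Subgroup G'} (e : S ≃* T) : ∃ Y, UP q T Y := by
  let j : S →* G' := T.subtype.comp e.toMonoidHom
  have hj : Function.Injective j := T.subtype_injective.comp e.injective
  have hT : ∀ x ∈ T, ∃ s : S, j s = x := fun x hx => ⟨e.symm ⟨x, hx⟩, by simp [j]⟩
  have hjT : ∀ s, j s ∈ T := fun s => (e s).2
  have hm : ∀ s : S, j s ∈ (Z.subgroupOf S).map j ↔ (s : G) ∈ Z := fun s =>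
    mem_map_iff_mem hj
  have he : ∀ s t : S, j s = j t ↔ (s : G) = t := fun s t => hj.eq_iff.trans Subtype.ext_iff
  refine ⟨(Z.subgroupOf S).map j, fun x => ⟨?_, fun ⟨hx, h2⟩ => ?_⟩, ?_, ?_, ?_, ?_, ?_, ?_, ?_, ?_⟩
  · rintro ⟨s, hs, rfl⟩
    exact ⟨hjT s, by rw [← map_mul, ← map_one j, he]; exact ((h.mem_iff s).1 hs).2⟩
  · obtain ⟨s, rfl⟩ := hT x hx
    rw [← map_mul, ← map_one j, he] at h2
    exact (hm s).2 ((h.mem_iff s).2 ⟨s.2, h2⟩)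
  · rintro x hx _ ⟨z, hz, rfl⟩
    obtain ⟨s, rfl⟩ := hT x hx
    rw [← map_mul, ← map_mul, he]
    exact h.central s.2 z hz
  · intro x hx y hy
    obtain ⟨s, rfl⟩ := hT x hx
    obtain ⟨t, rfl⟩ := hT y hy
    rw [← map_inv, ← map_inv, ← map_mul, ← map_mul, ← map_mul, hm]
    exact h.comm s s.2 t t.2
  · intro x hx
    obtain ⟨s, rfl⟩ := hT x hx
    rw [← map_mul, hm]
    exact h.sq s s.2
  · rw [← h.cardZ, ← Nat.card_congr ((Z.subgroupOf S).equivMapOfInjective j hj).toEquiv,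
      Nat.card_congr (subgroupOfEquivOfLe h.le).toEquiv]
  · rw [← h.cardS, Nat.card_congr e.toEquiv]
  · rintro x hx hn _ ⟨z, hz, rfl⟩
    obtain ⟨x, rfl⟩ := hT x hx
    obtain ⟨s, hs, e1⟩ := h.conj x x.2 (fun h => hn ((hm x).2 h)) z hz
    refine ⟨j ⟨s, hs⟩, hjT _, ?_⟩
    rw [← map_inv, ← map_inv, ← map_mul, ← map_mul, ← map_mul, he]
    exact e1
  · intro x hx hn a ha b hb h1 h2
    obtain ⟨x, rfl⟩ := hT x hx
    obtain ⟨a, rfl⟩ := hT a ha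
    obtain ⟨b, rfl⟩ := hT b hb
    rw [← map_mul, ← map_mul, he] at h1 h2 ⊢
    exact h.ab x x.2 (fun h => hn ((hm x).2 h)) a a.2 b b.2 h1 h2
  · rintro x hx hn _ ⟨z, hz, rfl⟩
    obtain ⟨x, rfl⟩ := hT x hx
    obtain ⟨s, hs, e1, e2⟩ := h.root x x.2 (fun h => hn ((hm x).2 h)) z hz
    refine ⟨j ⟨s, hs⟩, hjT _, ?_, ?_⟩
    · rw [← map_mul, ← map_mul, he]; exact e1
    · rw [← map_mul, he]; exact e2

section Unitary

open Cfsg.Lib.Suz Cfsg.Lib.Class Cfsg.Lib.Class.Form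

variable {E : Type*} [Field E] [Fintype E] {n : ℕ}

theorem up_of_udata (hn : 1 ≤ n) (hE : Fintype.card E = (2 ^ n) ^ 2) {Q : Subgroup G}
    {u : E → E → G} {d : Eˣ →* G} (U : UData Q (frobq hE) u d) :
    IsPGroup 2 Q ∧ ∃ Z, UP (2 ^ n) Q Z := by
  have : CharP E 2 := charP_of_card_eq_prime_pow (f := n * 2) (by rw [hE, pow_mul])
  have two : (2 : E) = 0 := CharTwo.two_eq_zero
  have hσ := frobq_frobq hE
  have hσ1 := frobq_ne_id hE
  have hpow := frobq_apply hE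
  have hcard := card_pow_eq_self hE
  have htr := fun x : E => card_trace_eq hE (n := x * frobq hE x)
    (by rw [← hpow, map_mul, hσ, mul_comm])
  simp only [← hpow] at hcard htr
  generalize frobq hE = σ at U hσ hσ1 hpow hcard htr
  let S : Subfield E := RingHom.eqLocusField σ (RingHom.id E)
  have hSm : ∀ y, y ∈ S ↔ σ y = y := fun y => Iff.rfl
  have c0 : ∀ y ∈ S, y + σ y = 0 * σ 0 := fun y hy => by
    rw [(hSm y).1 hy]; linear_combination y * two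
  have c1 : ∀ {x y}, y + σ y = x * σ x → x = 0 → y ∈ S := fun {x y} h hx => by
    rw [hSm]; rw [hx] at h; linear_combination h - y * two
  have hN : ∀ x, x * σ x ∈ S := fun x => by rw [hSm, map_mul, hσ, mul_comm]
  have u0 : u 0 0 = 1 := by simpa using U.mul (x := 0) (y := 0) (x' := 0) (y' := 0) (by simp) (by simp)
  have usq : ∀ {x y}, y + σ y = x * σ x → u x y * u x y = u 0 (x * σ x) := fun {x y} h => by
    rw [U.mul h h]
    congr 1
    · linear_combination x * two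
    · linear_combination y * two
  have uz : ∀ y ∈ S, u 0 y * u 0 y = 1 := fun y hy => by rw [usq (c0 y hy), zero_mul, u0]
  let Z : Subgroup G :=
    { carrier := {g | ∃ y ∈ S, u 0 y = g}
      one_mem' := ⟨0, S.zero_mem, u0⟩
      mul_mem' := by
        rintro _ _ ⟨y, hy, rfl⟩ ⟨y', hy', rfl⟩
        exact ⟨y + y', S.add_mem hy hy', by rw [U.mul (c0 y hy) (c0 y' hy')]; simp⟩
      inv_mem' := by
        rintro _ ⟨y, hy, rfl⟩
        exact ⟨y, hy, eq_inv_of_mul_eq_one_left (uz y hy)⟩ }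
  have hZ : ∀ {x y}, y + σ y = x * σ x → (u x y ∈ Z ↔ x = 0) := fun {x y} h =>
    ⟨fun ⟨y', hy', e⟩ => (U.inj (c0 y' hy') h e).1.symm, fun hx => ⟨y, c1 h hx, by rw [hx]⟩⟩
  have hZQ : Z ≤ Q := fun g ⟨y, hy, e⟩ => (U.mem g).2 ⟨0, y, c0 y hy, e⟩
  have hcen : ∀ g ∈ Q, ∀ y ∈ S, u 0 y * g = g * u 0 y := fun g hg y hy => by
    obtain ⟨x, w, h, rfl⟩ := (U.mem g).1 hg
    rw [U.mul h (c0 y hy), U.mul (c0 y hy) h]
    simp [add_comm]
  have hQ : IsPGroup 2 Q := fun g => ⟨2, Subtype.ext (by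
    obtain ⟨x, y, h, e⟩ := (U.mem g).1 g.2
    rw [coe_pow, ← e, show 2 ^ 2 = 2 * 2 from rfl, pow_mul, sq, sq, usq h, uz _ (hN x), coe_one])⟩
  have cZ : Nat.card Z = 2 ^ n := by
    rw [← hcard]
    refine (Nat.card_eq_of_bijective (fun y : {x // σ x = x} => (⟨u 0 y.1, y.1, y.2, rfl⟩ : Z))
      ⟨fun y y' e => Subtype.ext (U.inj (c0 _ y.2) (c0 _ y'.2) (congrArg Subtype.val e)).2,
        fun ⟨_, y, hy, e⟩ => ⟨⟨y, hy⟩, Subtype.ext e⟩⟩).symm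
  have cQ : Nat.card Q = (2 ^ n) ^ 2 * 2 ^ n := by
    have : Nat.card {p : E × E // p.2 + σ p.2 = p.1 * σ p.1} = Nat.card Q :=
      Nat.card_eq_of_bijective (fun p => ⟨u p.1.1 p.1.2, (U.mem _).2 ⟨_, _, p.2, rfl⟩⟩)
        ⟨fun p p' e => Subtype.ext (Prod.ext_iff.2 (U.inj p.2 p'.2 (congrArg Subtype.val e))),
          fun g => by
            obtain ⟨x, y, h1, e⟩ := (U.mem g).1 g.2
            exact ⟨⟨(x, y), h1⟩, Subtype.ext e⟩⟩
    rw [← this, Nat.card_congr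
      (Equiv.subtypeProdEquivSigmaSubtype fun x y : E => y + σ y = x * σ x), Nat.card_sigma]
    simp [htr, hE]
  have hcomm : ∀ {x y x' y'}, y + σ y = x * σ x → y' + σ y' = x' * σ x' →
      u x y * u x' y' * (u x y)⁻¹ * (u x' y')⁻¹ = u 0 (x * σ x' + σ (x * σ x')) := by
    intro x y x' y' h h'
    have hS : x * σ x' + σ (x * σ x') ∈ S := by rw [hSm, map_add, hσ, add_comm]
    rw [mul_inv_eq_iff_eq_mul, mul_inv_eq_iff_eq_mul, mul_assoc, U.mul h h', U.mul h' h,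
      U.mul (c0 _ hS) (uJ_mul_cond hσ h' h)]
    congr 1
    · ring
    · rw [map_mul, hσ]; linear_combination (-(x' * σ x)) * two
  have hc : ∀ {x y x' y'}, y + σ y = x * σ x → y' + σ y' = x' * σ x' →
      (u x y * u x' y' = u x' y' * u x y ↔ x * σ x' = x' * σ x) := by
    intro x y x' y' h h'
    rw [U.mul h h', U.mul h' h]
    refine ⟨fun e => ?_, fun e => by rw [e, add_comm x, add_comm y]⟩
    have := (U.inj (uJ_mul_cond hσ h h') (uJ_mul_cond hσ h' h) e).2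
    linear_combination this
  refine ⟨hQ, Z, fun g => ⟨fun h => ⟨hZQ h, ?_⟩, fun h => ?_⟩, ?_, ?_, ?_, cZ, cQ, ?_, ?_, ?_⟩
  · obtain ⟨y, hy, rfl⟩ := h
    exact uz y hy
  · obtain ⟨x, y, h1, rfl⟩ := (U.mem g).1 h.1
    have h2 := (U.inj (c0 _ (hN x)) (c0 _ S.zero_mem) ((usq h1).symm.trans (h.2.trans u0.symm))).2
    exact (hZ h1).2 (by simpa using h2)
  · rintro g hg _ ⟨y, hy, rfl⟩
    exact hcen g hg y hy
  · intro s hs t ht
    obtain ⟨x, y, h, rfl⟩ := (U.mem s).1 hs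
    obtain ⟨x', y', h', rfl⟩ := (U.mem t).1 ht
    exact ⟨_, by rw [hSm, map_add, hσ, add_comm], (hcomm h h').symm⟩
  · intro g hg
    obtain ⟨x, y, h1, rfl⟩ := (U.mem g).1 hg
    exact ⟨_, hN x, (usq h1).symm⟩
  · rintro g hg hn _ ⟨c, hc', rfl⟩
    obtain ⟨x, y, h, rfl⟩ := (U.mem g).1 hg
    have hx : σ x ≠ 0 := (map_ne_zero σ).2 fun e => hn ((hZ h).2 e)
    obtain ⟨w, hw⟩ := exists_trace_eq hσ1 hσ hc'
    obtain ⟨v, hv⟩ := exists_trace_eq hσ1 hσ (hN (w / σ x))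
    refine ⟨_, (U.mem _).2 ⟨_, _, hv, rfl⟩, ?_⟩
    rw [hcomm hv h, div_mul_cancel₀ _ hx, hw]
  · intro g hg hn a ha b hb h1 h2
    obtain ⟨x, y, h, rfl⟩ := (U.mem g).1 hg
    obtain ⟨x', y', h', rfl⟩ := (U.mem a).1 ha
    obtain ⟨x'', y'', h'', rfl⟩ := (U.mem b).1 hb
    have hx0 : x ≠ 0 := fun e => hn ((hZ h).2 e)
    have hx : σ x ≠ 0 := (map_ne_zero σ).2 hx0
    rw [hc h' h] at h1
    rw [hc h'' h] at h2
    rw [hc h' h'']
    refine mul_left_cancel₀ (mul_ne_zero hx0 hx) ?_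
    linear_combination (x * σ x'') * h1 - (x * σ x') * h2
  · rintro g hg hn _ ⟨c, hc', rfl⟩
    obtain ⟨x, y, h, rfl⟩ := (U.mem g).1 hg
    have hx0 : x ≠ 0 := fun e => hn ((hZ h).2 e)
    have hx : σ x ≠ 0 := (map_ne_zero σ).2 hx0
    obtain ⟨e, he⟩ := (frobenius E 2).injective.surjective_of_finite (Equiv.refl _) (c / (x * σ x))
    have he' : σ e = e := (frobenius E 2).injective (by
      rw [he, frobenius_def, ← map_pow, ← frobenius_def, he]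
      exact (hSm _).1 (S.div_mem hc' (hN x)))
    obtain ⟨v, hv⟩ := exists_trace_eq hσ1 hσ (hN (e * x))
    refine ⟨_, (U.mem _).2 ⟨_, _, hv, rfl⟩, ?_, ?_⟩
    · rw [hc hv h, map_mul, he']; ring
    · rw [usq hv, map_mul, he']
      congr 1
      rw [frobenius_def, eq_div_iff (mul_ne_zero hx0 hx)] at he
      linear_combination he

theorem exists_up (hn : 1 ≤ n) (hE : Fintype.card E = (2 ^ n) ^ 2) (P : Sylow 2 (PSU 3 E (2 ^ n))) :
    ∃ Z, UP (2 ^ n) (P : Subgroup (PSU 3 E (2 ^ n))) Z := by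
  obtain ⟨H, Q, t, u, d, hS, U⟩ := exists_udata hE
  obtain ⟨hQ, Z, h⟩ := up_of_udata hn hE U
  obtain ⟨T, rfl⟩ := Bender.exists_sylow_eq_Q hS hQ
  exact h.of_equiv (Sylow.equiv T P)

end Unitary

/-- The orders of a Sylow 2-subgroup of a Bender group and of the subgroup of its involutions. -/
theorem bender_cases {X : Type u} [Group X] [Finite X] (h : Bender.IsBender X) (T : Sylow 2 X)
    {Z : Subgroup X} (hZ : ∀ x, x ∈ Z ↔ x ∈ (T : Subgroup X) ∧ x * x = 1) :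
    Z = T ∨ Nat.card (T : Subgroup X) = Nat.card Z ^ 2 ∨
      ∃ (F : Type) (_ : Field F) (_ : Fintype F) (n : ℕ), Fintype.card F = (2 ^ n) ^ 2 ∧
        Nonempty (X ≃* PSU 3 F (2 ^ n)) ∧ Nat.card Z = 2 ^ n ∧
          Nat.card (T : Subgroup X) = (2 ^ n) ^ 2 * 2 ^ n := by
  have key : ∀ {Y : Type} [Group Y] [Finite Y] (_ : X ≃* Y) (T' : Sylow 2 Y) (Z' : Subgroup Y),
      (∀ x, x ∈ Z' ↔ x ∈ (T' : Subgroup Y) ∧ x * x = 1) →
      Nat.card (T' : Subgroup Y) = Nat.card (T : Subgroup X) ∧ Nat.card Z' = Nat.card Z := by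
    intro Y _ _ e T' Z' hZ'
    obtain ⟨e', he'⟩ := exists_equiv_sylow e T T'
    refine ⟨card_eq_equiv e' he', card_eq_equiv e' fun x => ?_⟩
    rw [hZ, hZ', he', ← map_mul, MulEquiv.map_eq_one_iff]
  rcases h with ⟨F, _, _, ⟨n, hn, hF⟩, ⟨e⟩⟩ | ⟨F, _, _, m, hm, hF, ⟨e⟩⟩ | ⟨F, _, _, n, hn, hF, ⟨e⟩⟩
  · have : CharP F 2 := charP_of_card_eq_prime_pow hF
    have := (Known.GL2.slLin F).finite
    obtain ⟨h1, h2⟩ := key (e.trans (Known.GL2.equivPSL CharTwo.two_eq_zero).symm) _ _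
      (bt_sl2 (hF ▸ Bender.four_le_two_pow hn)).mem_iff
    exact Or.inl (eq_of_le_of_card_ge (fun x hx => ((hZ x).1 hx).1) (by rw [← h1, ← h2]; rfl))
  · let M := Chev.lieSzModel hm hF
    have := M.finite
    obtain ⟨h1, h2⟩ := key e _ _ (bt_sz M (T := M.sylowAt M.inf) M.Pat_inf).mem_iff
    refine Or.inr (Or.inl ?_)
    rw [← h1, ← h2, M.card_Z]
    exact M.card_Pat _
  · have := Finite.of_equiv _ e.toEquiv
    obtain ⟨Z', h⟩ := exists_up (by omega) hF default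
    obtain ⟨h1, h2⟩ := key e _ _ h.mem_iff
    exact Or.inr (Or.inr ⟨F, _, _, n, hF, ⟨e⟩, h2 ▸ h.cardZ, h1 ▸ h.cardS⟩)

end Cfsg.Lib.ZH8
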